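import Mathlib
set_option autoImplicit false

/-! # Definitions for the Praeger-Saxl bound S0725 -/

namespace Cfsg.Agent.PermutationGroups.PS.Defs

universe u

open Equiv MulAction

/-- `x` and `y` are in the same orbit of the stabiliser of `c` in `G`. -/
def Unsep {Ω : Type u} (G : Subgroup (Perm Ω)) (c x y : Ω) : Prop :=
  ∃ g ∈ G, g c = c ∧ g x = y

/-- number of points separating `x` and `y` -/
noncomputable def sep {Ω : Type u} (G : Subgroup (Perm Ω)) (x y : Ω) : ℕ :=
  Nat.card {c : Ω // ¬ Unsep G c x y}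

/-- `x` and `y` are in the same orbit of the pointwise stabiliser of `a, b` in `G`. -/
def Unsep2 {Ω : Type u} (G : Subgroup (Perm Ω)) (a b x y : Ω) : Prop :=
  ∃ g ∈ G, g a = a ∧ g b = b ∧ g x = y

/-- number of ordered pairs of distinct points NOT separating `x` and `y` -/
noncomputable def unsep2 {Ω : Type u} (G : Subgroup (Perm Ω)) (x y : Ω) : ℕ :=
  Nat.card {c : Ω × Ω // c.1 ≠ c.2 ∧ Unsep2 G c.1 c.2 x y}

/-- a linear space structure on `Ω` with lines `F a b` (`a ≠ b`) of size `ρ`, invariant under `G`,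
such that the stabiliser of `a, b` is transitive off the line `F a b`. -/
structure IsLineSpace {Ω : Type u} [DecidableEq Ω] (G : Subgroup (Perm Ω))
    (F : Ω → Ω → Finset Ω) (ρ : ℕ) : Prop where
  left_mem : ∀ a b, a ≠ b → a ∈ F a b
  right_mem : ∀ a b, a ≠ b → b ∈ F a b
  card_eq : ∀ a b, a ≠ b → (F a b).card = ρ
  eq_of_mem : ∀ a b c d, a ≠ b → c ≠ d → c ∈ F a b → d ∈ F a b → F c d = F a b
  smul : ∀ g ∈ G, ∀ a b, a ≠ b → F (g a) (g b) = (F a b).map g.toEmbedding
  trans : ∀ a b c d, a ≠ b → c ∉ F a b → d ∉ F a b → ∃ g ∈ G, g a = a ∧ g b = b ∧ g c = d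

end Cfsg.Agent.PermutationGroups.PS.Defs
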